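import Cfsg.Agent.Lib.Helper9.TCData.U43M0.Main

set_option autoImplicit false
set_option maxRecDepth 1000000

namespace Cfsg.Agent.Helper9.TCData.U43M0
open Cfsg.Agent.Helper9.TC2 Cfsg.Agent.Helper9.LTC Cfsg.Agent.Helper9.LPerm Cfsg.Agent.Helper9.TCData

theorem f_360 : allRange 360 20 (fun x => chkFixP ptab fixWords x) = true := by decide +kernel

theorem f_380 : allRange 380 20 (fun x => chkFixP ptab fixWords x) = true := by decide +kernel

theorem f_400 : allRange 400 20 (fun x => chkFixP ptab fixWords x) = true := by decide +kernel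

end Cfsg.Agent.Helper9.TCData.U43M0
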