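import Cfsg.Agent.Lib.Helper9.TCData.U43M0.S0
import Cfsg.Agent.Lib.Helper9.TCData.U43M0.F0
import Cfsg.Agent.Lib.Helper9.TCData.U43M0.F1
import Cfsg.Agent.Lib.Helper9.TCData.U43M0.F2
import Cfsg.Agent.Lib.Helper9.TCData.U43M0.F3
import Cfsg.Agent.Lib.Helper9.TCData.U43M0.F4
import Cfsg.Agent.Lib.Helper9.TCData.U43M0.F5
import Cfsg.Agent.Lib.Helper9.TCData.U43M0.F6
import Cfsg.Agent.Lib.Helper9.TCData.U43M0.F7
import Cfsg.Agent.Lib.Helper9.TCData.U43M0.F8

set_option autoImplicit false
set_option maxRecDepth 1000000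

namespace Cfsg.Agent.Helper9.TCData.U43M0
open Cfsg.Agent.Helper9.TC2 Cfsg.Agent.Helper9.LTC Cfsg.Agent.Helper9.LPerm Cfsg.Agent.Helper9.TCData

theorem hP1 : ∀ x < ptab.n, chkP1 ptab x = true := by
  have h : ∀ x < 540, chkP1 ptab x = true := by
    exact (ext_range (ext_range (ext_range range_zero p1_0) p1_180) p1_360)
  exact h

theorem hFix : ∀ x < ptab.n, chkFixP ptab fixWords x = true := by
  have h : ∀ x < 540, chkFixP ptab fixWords x = true := by
    exact (ext_range (ext_range (ext_range (ext_range (ext_range (ext_range (ext_range (ext_range (ext_range (ext_range (ext_range (ext_range (ext_range (ext_range (ext_range (ext_range (ext_range (ext_range (ext_range (ext_range (ext_range (ext_range (ext_range (ext_range (ext_range (ext_range (ext_range range_zero f_0) f_20) f_40) f_60) f_80) f_100) f_120) f_140) f_160) f_180) f_200) f_220) f_240) f_260) f_280) f_300) f_320) f_340) f_360) f_380) f_400) f_420) f_440) f_460) f_480) f_500) f_520)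
  exact h

theorem pok : POK ptab := ⟨by decide, by decide, hP1⟩

theorem hz_0 : chkW ptab (zWords.getD 0 []) 0 8 1 = true := by decide +kernel

theorem hz_1 : chkW ptab (zWords.getD 1 []) 0 0 0 = true := by decide +kernel

theorem hz_2 : chkW ptab (zWords.getD 2 []) 0 0 2 = true := by decide +kernel

theorem hz_3 : chkW ptab (zWords.getD 3 []) 0 0 1 = true := by decide +kernel

theorem hz_4 : chkW ptab (zWords.getD 4 []) 0 8 1 = true := by decide +kernel

theorem hz_5 : chkW ptab (zWords.getD 5 []) 0 1 1 = true := by decide +kernel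

theorem hz_6 : chkW ptab (zWords.getD 6 []) 0 1 0 = true := by decide +kernel

end Cfsg.Agent.Helper9.TCData.U43M0
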