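import Cfsg.Agent.Lib.Helper9.TCData.U43M0.Main

set_option autoImplicit false
set_option maxRecDepth 1000000

namespace Cfsg.Agent.Helper9.TCData.U43M0
open Cfsg.Agent.Helper9.TC2 Cfsg.Agent.Helper9.LTC Cfsg.Agent.Helper9.LPerm Cfsg.Agent.Helper9.TCData

theorem p1_0 : allRange 0 180 (fun x => chkP1 ptab x) = true := by decide +kernel

theorem p1_180 : allRange 180 180 (fun x => chkP1 ptab x) = true := by decide +kernel

theorem p1_360 : allRange 360 180 (fun x => chkP1 ptab x) = true := by decide +kernel

end Cfsg.Agent.Helper9.TCData.U43M0
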